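import Groth.Agent.S0002
import Groth.Agent.Lib.Lead.PF.LocalVanish
import Mathlib.FieldTheory.Perfect

/-! # Frobenius split schemes: cohomology of the cokernel of Frobenius vanishes. -/

set_option autoImplicit false
universe u v w
open CategoryTheory Limits AlgebraicGeometry TopologicalSpace Opposite

namespace Groth.Agent.LD.Frob

/-- an injective `p`-semilinear additive endomorphism of a finite dimensional vector space over a
perfect field is surjective. -/
theorem surjective_of_semilinear_injective (k : Type u) [Field k] (p : ℕ) [Fact p.Prime] [CharP k p]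
    [PerfectField k] (V : Type v) [AddCommGroup V] [Module k V] [Module.Finite k V]
    (T : V →+ V) (hT : ∀ (c : k) (x : V), T (c • x) = c ^ p • T x) (hinj : Function.Injective T) :
    Function.Surjective T := by
  classical
  let b := Module.finBasis k V
  have hroot : ∀ c : k, ∃ d : k, d ^ p = c := fun c => by
    obtain ⟨d, hd⟩ := surjective_frobenius k p c
    exact ⟨d, by rwa [frobenius_def] at hd⟩
  choose r hr using hroot
  have hsum : ∀ (c : Fin (Module.finrank k V) → k),
      T (∑ j, r (c j) • b j) = ∑ j, c j • T (b j) := by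
    intro c
    rw [map_sum]
    refine Finset.sum_congr rfl fun j _ => ?_
    rw [hT, hr]
  have hli : LinearIndependent k (fun j => T (b j)) := by
    rw [Fintype.linearIndependent_iff]
    intro c hc j
    have h0 : T (∑ j, r (c j) • b j) = 0 := by rw [hsum, hc]
    have h1 : ∑ j, r (c j) • b j = 0 := hinj (by rw [h0, map_zero])
    have h2 := (Fintype.linearIndependent_iff.1 b.linearIndependent) (fun j => r (c j)) h1 j
    rw [← hr (c j), h2, zero_pow (Fact.out : p.Prime).ne_zero]
  have hspan : Submodule.span k (Set.range fun j => T (b j)) = ⊤ :=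
    hli.span_eq_top_of_card_eq_finrank' (by simp)
  intro y
  have hy : y ∈ Submodule.span k (Set.range fun j => T (b j)) := hspan ▸ Submodule.mem_top
  obtain ⟨c, rfl⟩ := (Submodule.mem_span_range_iff_exists_fun k).1 hy
  exact ⟨∑ j, r (c j) • b j, hsum c⟩

section sheaf

variable {C : Type u} [Category.{v} C] {J : GrothendieckTopology C}
  [HasSheafify J AddCommGrpCat.{w}] [HasExt.{w} (Sheaf J AddCommGrpCat.{w})]

lemma H_map_zero {F G : Sheaf J AddCommGrpCat.{w}} (n : ℕ) (x : Sheaf.H F n) :
    Sheaf.H.map (0 : F ⟶ G) n x = 0 := by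
  rw [Sheaf.H.map_apply, Abelian.Ext.mk₀_zero, Abelian.Ext.comp_zero]

/-- if `φ` is a split monomorphism inducing a surjection on `H^i`, then `H^i` of its cokernel
vanishes. -/
theorem subsingleton_H_cokernel {F : Sheaf J AddCommGrpCat.{w}} (φ s : F ⟶ F) (hs : φ ≫ s = 𝟙 F)
    (i : ℕ) (hsurj : Function.Surjective (Sheaf.H.map φ i)) :
    Subsingleton (Sheaf.H (cokernel φ) i) := by
  have hw : φ ≫ (𝟙 F - s ≫ φ) = 0 := by
    rw [Preadditive.comp_sub, Category.comp_id, ← Category.assoc, hs, Category.id_comp, sub_self]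
  let σ : cokernel φ ⟶ F := cokernel.desc φ (𝟙 F - s ≫ φ) hw
  have hσ : σ ≫ cokernel.π φ = 𝟙 _ := by
    rw [← cancel_epi (cokernel.π φ)]
    rw [cokernel.π_desc_assoc, Preadditive.sub_comp, Category.id_comp, Category.assoc,
      cokernel.condition, comp_zero, sub_zero, Category.comp_id]
  refine ⟨fun x y => ?_⟩
  have key : ∀ x : Sheaf.H (cokernel φ) i, x = 0 := by
    intro x
    have h1 : x = Sheaf.H.map (cokernel.π φ) i (Sheaf.H.map σ i x) := by
      rw [← Sheaf.H.map_comp_apply, hσ, Sheaf.H.map_id_apply]
    obtain ⟨z, hz⟩ := hsurj (Sheaf.H.map σ i x)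
    rw [h1, ← hz, ← Sheaf.H.map_comp_apply, cokernel.condition, H_map_zero]
  rw [key x, key y]

end sheaf

end Groth.Agent.LD.Frob
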